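import Mathlib

set_option autoImplicit false
set_option linter.unusedSectionVars false

/-! # S5165 (the `p`-fusion system of `A_n` is simple): the wreath model of a Sylow `p`-subgroup

`X p I r = (I × ZMod p) ⊕ Fin r`: `I` "little blocks" `{i} × ZMod p` of size `p` and `r` further points.
* `base f` (`f : I → ZMod p`): translation by `f i` on the block `i` (the base group `Bsub`, elementary
  abelian of order `p ^ |I|`), `cyc i = base (Pi.single i 1)` the `p`-cycle on the block `i`;
* `lift σ` (`σ : Perm I`): the permutation `σ` of the blocks;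
* `torus a` (`a : I → (ZMod p)ˣ`): multiplication by `a i` on the block `i`;
* `SQ Q = Bsub ⊔ Q.map lift` (`Q ≤ Perm I`): the wreath product `C_p ≀ Q`; a Sylow `p`-subgroup of
  `Perm (X p I r)` when `Q` is one of `Perm I` and `r < p`.
Two levels: `I = X p I' r'`; for a set `O` of `p²`-blocks `g0 O w` is `diag (w⁻¹, w)` on the planes
`{j} × ZMod p × ZMod p`, `j ∈ O`, and `R0 O` is the abelian group generated by the translations of these planes
and by the little `p`-cycles elsewhere. -/

namespace Cfsg.Agent.S5165P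

/-- the model set -/
abbrev X (p : ℕ) (I : Type*) (r : ℕ) : Type _ := (I × ZMod p) ⊕ Fin r

section model

variable {p : ℕ} [Fact p.Prime] {I : Type*} {r : ℕ}

/-- translation by `f i` on the block `i` -/
def base (f : I → ZMod p) : Equiv.Perm (X p I r) :=
  (Equiv.prodShear (Equiv.refl I) (fun i => Equiv.addRight (f i))).sumCongr (Equiv.refl (Fin r))

@[simp] theorem base_inl (f : I → ZMod p) (i : I) (x : ZMod p) :
    base (r := r) f (Sum.inl (i, x)) = Sum.inl (i, x + f i) := rfl

@[simp] theorem base_inr (f : I → ZMod p) (k : Fin r) :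
    base (I := I) f (Sum.inr k) = Sum.inr k := rfl

/-- the base group as a homomorphism -/
def baseHom : Multiplicative (I → ZMod p) →* Equiv.Perm (X p I r) where
  toFun f := base (Multiplicative.toAdd f)
  map_one' := by
    ext x
    rcases x with ⟨i, x⟩ | k
    · simp
    · simp
  map_mul' := by
    intro f g
    ext x
    rcases x with ⟨i, x⟩ | k
    · simp only [toAdd_mul, base_inl, Pi.add_apply, Equiv.Perm.coe_mul, Function.comp_apply]
      congr 2
      abel
    · simp

theorem baseHom_apply (f : Multiplicative (I → ZMod p)) :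
    baseHom (r := r) f = base (Multiplicative.toAdd f) := rfl

/-- the base group -/
def Bsub (p : ℕ) [Fact p.Prime] (I : Type*) (r : ℕ) : Subgroup (Equiv.Perm (X p I r)) :=
  (baseHom (p := p) (I := I) (r := r)).range

theorem mem_Bsub {g : Equiv.Perm (X p I r)} : g ∈ Bsub p I r ↔ ∃ f : I → ZMod p, g = base f := by
  constructor
  · rintro ⟨f, rfl⟩
    exact ⟨Multiplicative.toAdd f, rfl⟩
  · rintro ⟨f, rfl⟩
    exact ⟨Multiplicative.ofAdd f, rfl⟩

/-- the permutation `σ` of the blocks -/
def lift : Equiv.Perm I →* Equiv.Perm (X p I r) where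
  toFun σ := (Equiv.prodCongr σ (Equiv.refl (ZMod p))).sumCongr (Equiv.refl (Fin r))
  map_one' := by
    ext x
    rcases x with ⟨i, x⟩ | k <;> rfl
  map_mul' := by
    intro σ τ
    ext x
    rcases x with ⟨i, x⟩ | k <;> rfl

@[simp] theorem lift_inl (σ : Equiv.Perm I) (i : I) (x : ZMod p) :
    lift (p := p) (r := r) σ (Sum.inl (i, x)) = Sum.inl (σ i, x) := rfl

@[simp] theorem lift_inr (σ : Equiv.Perm I) (k : Fin r) :
    lift (p := p) σ (Sum.inr k) = Sum.inr k := rfl

/-- multiplication by `a i` on the block `i` -/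
def torus (a : I → (ZMod p)ˣ) : Equiv.Perm (X p I r) :=
  (Equiv.prodShear (Equiv.refl I) (fun i => Units.mulLeft (a i))).sumCongr (Equiv.refl (Fin r))

@[simp] theorem torus_inl (a : I → (ZMod p)ˣ) (i : I) (x : ZMod p) :
    torus (r := r) a (Sum.inl (i, x)) = Sum.inl (i, (a i : ZMod p) * x) := rfl

@[simp] theorem torus_inr (a : I → (ZMod p)ˣ) (k : Fin r) :
    torus (I := I) a (Sum.inr k) = Sum.inr k := rfl

/-- the wreath product `C_p ≀ Q` -/
def SQ (r : ℕ) (Q : Subgroup (Equiv.Perm I)) : Subgroup (Equiv.Perm (X p I r)) :=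
  Bsub p I r ⊔ Q.map lift

/-- the `p`-cycle on the block `i` -/
def cyc [DecidableEq I] (i : I) : Equiv.Perm (X p I r) := base (Pi.single i 1)

/-- `h` is a `p`-element -/
def IsPElt (p : ℕ) {G : Type*} [Group G] (h : G) : Prop := ∃ k : ℕ, orderOf h = p ^ k

end model

section twolevel

variable {p : ℕ} [Fact p.Prime] {I' : Type*} [DecidableEq I'] {r' r : ℕ}

/-- the scalar `w` on the little blocks inside the planes `j ∈ O`, `1` elsewhere -/
def aO (O : Finset I') (w : (ZMod p)ˣ) : X p I' r' → (ZMod p)ˣ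
  | Sum.inl (j, _) => if j ∈ O then w else 1
  | Sum.inr _ => 1

/-- the scalar `w` on the planes `j ∈ O`, `1` elsewhere -/
def bO (O : Finset I') (w : (ZMod p)ˣ) : I' → (ZMod p)ˣ := fun j => if j ∈ O then w else 1

/-- `diag (w⁻¹, w)` on the planes `j ∈ O`: the point `(j, x, y)` goes to `(j, w⁻¹ x, w y)` -/
def g0 (O : Finset I') (w : (ZMod p)ˣ) : Equiv.Perm (X p (X p I' r') r) :=
  torus (aO O w) * lift (torus (bO O w⁻¹))

/-- the abelian subgroup `E^O × B_out`: all translations of the planes `j ∈ O`, and the little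
`p`-cycles on the blocks outside these planes -/
def R0 (r : ℕ) (O : Finset I') : Subgroup (Equiv.Perm (X p (X p I' r') r)) :=
  Subgroup.closure
    ({g | ∃ f : X p I' r' → ZMod p,
        (∀ j ∈ O, ∀ x x' : ZMod p, f (Sum.inl (j, x)) = f (Sum.inl (j, x'))) ∧ g = base f} ∪
     {g | ∃ f' : I' → ZMod p, (∀ j, j ∉ O → f' j = 0) ∧ g = lift (base f')})

end twolevel

/-- `T` is strongly closed in `S` with respect to conjugation by the elements of `A` -/
def SC {Ω : Type*} [Group Ω] (A S T : Subgroup Ω) : Prop :=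
  T ≤ S ∧ ∀ t ∈ T, ∀ g ∈ A, g * t * g⁻¹ ∈ S → g * t * g⁻¹ ∈ T

end Cfsg.Agent.S5165P
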