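import Mathlib
import Cfsg.Agent.Helper25.S5165.Defs
import Cfsg.Agent.Helper4.S5165SPLUSGEN
import Cfsg.Agent.Helper24.S5165LIBA
import Cfsg.Agent.Helper24.S5165LIBB
import Cfsg.Agent.Helper23.S5165CARDSQ
import Cfsg.Agent.Helper17.S5165SYLOWSQ
import Cfsg.Agent.Helper17.S5165NONTRIV
import Cfsg.Agent.Helper4.S5165STEP4ODD
import Cfsg.Agent.Helper4.S5165STEP5
import Cfsg.Agent.Helper27.S5165STEP4TWO
import Cfsg.Agent.Helper13.S5165SYLOWPLUS
import Cfsg.Agent.Helper29.S5165NBASE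
import Cfsg.Agent.Helper5.S5165NORMBASE
import Cfsg.Agent.Helper7.S5165SIGNS
import Cfsg.Agent.Helper5.S5165KER4
import Cfsg.Agent.Helper23.S5165BASECENT
import Cfsg.Agent.Helper18.S5165ORBIT
import Cfsg.Agent.Helper18.S5165G0PROD
import Cfsg.Agent.Helper18.S5165G0NORM
import Cfsg.Agent.Helper25.S5165G0GEN
import Cfsg.Agent.Helper7.S5165R0LE
import Cfsg.Agent.Helper29.S5165R0CENT
import Cfsg.Agent.Helper11.S5165SELFNORM2
import Cfsg.Agent.Helper8.S5165NORM2
import Cfsg.Agent.Helper25.S5165INTERFACE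
import Cfsg.Agent.Helper25.SUUp
import Cfsg.Agent.Helper25.PSLFusionB

set_option autoImplicit false
set_option linter.unusedSectionVars false
set_option linter.unusedVariables false

/-! # S5165: assembly (helper25) -/

namespace Cfsg.Agent.S5165P

open Equiv

section main

variable {p : ℕ} [Fact p.Prime] {I : Type} [Fintype I] [DecidableEq I] {r : ℕ}

/-- (a): no proper non-trivial strongly closed subgroup -/
theorem MAINA.eq_bot_or (hpI : p ≤ Fintype.card I) (hI : 3 ≤ Fintype.card I) (hr : r < p)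
    (Q : Sylow p (Perm I)) (T : Subgroup (Perm (X p I r)))
    (hT : SC (alternatingGroup (X p I r))
      (SQ r (Q : Subgroup (Perm I)) ⊓ alternatingGroup (X p I r)) T) :
    T = ⊥ ∨ T = SQ r (Q : Subgroup (Perm I)) ⊓ alternatingGroup (X p I r) := by
  by_cases hT1 : T = ⊥
  · exact Or.inl hT1
  right
  have hB : Bsub p I r ⊓ alternatingGroup (X p I r) ≤ T := by
    by_cases hp : p = 2
    · exact STEP4TWO.Bsub_inf_le hp hI hr Q T hT hT1
    · exact inf_le_left.trans (STEP4ODD.Bsub_le hp hpI hr (Q : Subgroup (Perm I)) Q.isPGroup' T hT hT1)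
  apply le_antisymm hT.1
  rw [SPLUSGEN.eq_closure Q hr, Subgroup.closure_le]
  rintro x ⟨hx, hxo⟩
  exact STEP5.mem_of_order hpI hr (Q : Subgroup (Perm I)) T hT hB x hx hxo

/-- the sign of multiplication by a unit, as a homomorphism -/
noncomputable def sgnMul (p : ℕ) [Fact p.Prime] : (ZMod p)ˣ →* ℤˣ :=
  MonoidHom.mk' (fun u => Equiv.Perm.sign (Units.mulLeft u)) (fun u v => SIGNS.sign_mulLeft_mul u v)

/-- an element of the normal form with `∏ a = 1` which is even has `σ` even (`p` odd) -/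
theorem MAINB.sigma_even (hp : p ≠ 2) (f : I → ZMod p) (a : I → (ZMod p)ˣ) (σ : Perm I)
    (ha : ∏ i, a i = 1)
    (hx : base (r := r) f * torus a * lift σ ∈ alternatingGroup (X p I r)) :
    σ ∈ alternatingGroup I := by
  rw [Equiv.Perm.mem_alternatingGroup] at hx ⊢
  rw [map_mul, map_mul, SIGNS.sign_lift, SIGNS.sign_torus] at hx
  have h1 : Equiv.Perm.sign (base (r := r) f) = 1 := by
    apply SIGNS.sign_of_isPElt hp
    have h2 : orderOf (base (r := r) f) ∣ p := orderOf_dvd_of_pow_eq_one (LIBA.base_pow_p f)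
    rcases (Nat.dvd_prime (Fact.out : p.Prime)).mp h2 with h3 | h3
    · exact ⟨0, by rw [h3, pow_zero]⟩
    · exact ⟨1, by rw [h3, pow_one]⟩
  have h2 : ∏ i, Equiv.Perm.sign (Units.mulLeft (a i)) = 1 := by
    have : ∏ i, Equiv.Perm.sign (Units.mulLeft (a i)) = sgnMul p (∏ i, a i) := by
      rw [map_prod]
      rfl
    rw [this, ha, map_one]
  rw [h1, h2, one_mul, one_mul] at hx
  rcases Int.units_eq_one_or (Equiv.Perm.sign σ) with h | h
  · exact h
  · exfalso
    rw [h] at hx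
    have hodd : Odd p := (Fact.out : p.Prime).odd_of_ne_two hp
    rw [hodd.neg_one_pow] at hx
    exact absurd hx (by decide)

theorem SQ_isPGroup (Q : Subgroup (Perm I)) (hQ : IsPGroup p Q) : IsPGroup p (SQ (p := p) r Q) := by
  obtain ⟨k, hk⟩ := IsPGroup.iff_card.mp hQ
  apply IsPGroup.of_card (n := Fintype.card I + k)
  rw [CARDSQ.card_SQ, hk, pow_add]

theorem isPElt_of_mem_SQ (Q : Subgroup (Perm I)) (hQ : IsPGroup p Q) {g : Perm (X p I r)}
    (hg : g ∈ SQ r Q) : IsPElt p g := by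
  obtain ⟨k, hk⟩ := (SQ_isPGroup Q hQ) ⟨g, hg⟩
  have h1 : g ^ p ^ k = 1 := by simpa using congrArg Subtype.val hk
  obtain ⟨j, -, hj⟩ := (Nat.dvd_prime_pow (Fact.out : p.Prime)).mp (orderOf_dvd_of_pow_eq_one h1)
  exact ⟨j, hj⟩

theorem SQ_le_alt (hp : p ≠ 2) (Q : Subgroup (Perm I)) (hQ : IsPGroup p Q) :
    SQ (p := p) r Q ≤ alternatingGroup (X p I r) := by
  intro g hg
  rw [Equiv.Perm.mem_alternatingGroup]
  exact SIGNS.sign_of_isPElt hp g (isPElt_of_mem_SQ Q hQ hg)

end main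

section mainB

variable {p : ℕ} [Fact p.Prime] {I' : Type} [Fintype I'] [DecidableEq I'] {r' r : ℕ}

/-- (b), `p` odd -/
theorem MAINB.odd (hp : p ≠ 2) (hpI : p ≤ Fintype.card (X p I' r')) (hr : r ≤ 1) [Nonempty I']
    (Q' : Subgroup (Perm I')) (hQ' : IsPGroup p Q') (g : Perm (X p (X p I' r') r))
    (hgA : g ∈ alternatingGroup (X p (X p I' r') r))
    (hgN : g ∈ Subgroup.normalizer
      ((SQ r (SQ r' Q') ⊓ alternatingGroup (X p (X p I' r') r) :
        Subgroup (Perm (X p (X p I' r') r))) : Set (Perm (X p (X p I' r') r)))) :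
    g ∈ Subgroup.closure {x : Perm (X p (X p I' r') r) | x ∈ alternatingGroup (X p (X p I' r') r) ∧
      x ∈ Subgroup.normalizer
        ((SQ r (SQ r' Q') ⊓ alternatingGroup (X p (X p I' r') r) :
          Subgroup (Perm (X p (X p I' r') r))) : Set (Perm (X p (X p I' r') r))) ∧
      ∃ R : Subgroup (Perm (X p (X p I' r') r)),
        R ≤ SQ r (SQ r' Q') ⊓ alternatingGroup (X p (X p I' r') r) ∧
        Subgroup.centralizer (R : Set (Perm (X p (X p I' r') r))) ⊓
          alternatingGroup (X p (X p I' r') r) ≤ R ∧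
        x ∈ Subgroup.closure {h : Perm (X p (X p I' r') r) |
          h ∈ alternatingGroup (X p (X p I' r') r) ∧
          h ∈ Subgroup.normalizer (R : Set (Perm (X p (X p I' r') r))) ∧ IsPElt p h}} := by
  have hQp : IsPGroup p (SQ (p := p) r' Q') := SQ_isPGroup Q' hQ'
  have hS₀ : SQ r (SQ (p := p) r' Q') ⊓ alternatingGroup (X p (X p I' r') r) = SQ r (SQ r' Q') :=
    inf_eq_left.mpr (SQ_le_alt hp _ hQp)
  rw [hS₀] at hgN ⊢
  have hgB := NORMBASE.normalizer_le _ hgN
  obtain ⟨f, a, σ, hg⟩ := NBASE.exists_nf hr g hgB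
  obtain ⟨j₀⟩ := ‹Nonempty I'›
  obtain ⟨O, -, hOinv, hOcard⟩ := ORBIT.exists_orbit Q' hQ' j₀
  obtain ⟨u, hu⟩ : ∃ u, u = ∏ i, a i := ⟨_, rfl⟩
  obtain ⟨gu, hgu⟩ : ∃ gu, gu = g0 (r := r) O u := ⟨_, rfl⟩
  have hguN : gu ∈ Subgroup.normalizer
      ((SQ r (SQ r' Q') : Subgroup (Perm (X p (X p I' r') r))) :
        Set (Perm (X p (X p I' r') r))) := by
    rw [hgu]
    exact G0NORM.mem_normalizer Q' O hOinv u
  have hguG := G0GEN.mem_closure (r' := r') (r := r) hp O u
  rw [← hgu] at hguG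
  have hguA : gu ∈ alternatingGroup (X p (X p I' r') r) :=
    (Subgroup.closure_le _).mpr (fun h hh => hh.1) hguG
  obtain ⟨x, hxdef⟩ : ∃ x, x = gu⁻¹ * g := ⟨_, rfl⟩
  have hgx : g = gu * x := by rw [hxdef]; group
  have hxA : x ∈ alternatingGroup (X p (X p I' r') r) := by
    rw [hxdef]
    exact mul_mem (inv_mem hguA) hgA
  have hxN : x ∈ Subgroup.normalizer
      ((SQ r (SQ r' Q') : Subgroup (Perm (X p (X p I' r') r))) :
        Set (Perm (X p (X p I' r') r))) := by
    rw [hxdef]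
    exact mul_mem (inv_mem hguN) hgN
  have hxB := NORMBASE.normalizer_le _ hxN
  obtain ⟨f₂, a₂, σ₂, hx⟩ := NBASE.exists_nf hr x hxB
  have hprod : ∏ i, a₂ i = 1 := by
    have h1 := hgx
    have hgu' : gu = base 0 * torus (aO O u) * lift (torus (bO O u⁻¹)) := by
      rw [LIBA.base_zero, one_mul, hgu]
      rfl
    rw [hg, hgu', hx, LIBA.nf_mul] at h1
    obtain ⟨-, ha, -⟩ := LIBA.nf_unique _ _ _ _ _ _ h1
    have h2 : ∏ i, a i = (∏ i : X p I' r', aO O u i) * ∏ i, a₂ i := by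
      rw [ha, Finset.prod_mul_distrib]
      congr 1
      exact Equiv.prod_comp (torus (bO O u⁻¹) : Perm (X p I' r')).symm a₂
    rw [G0PROD.prod_aO O hOcard u, ← hu] at h2
    exact (mul_eq_left).mp h2.symm
  have hσ₂ : σ₂ ∈ alternatingGroup (X p I' r') :=
    MAINB.sigma_even hp f₂ a₂ σ₂ hprod (hx ▸ hxA)
  have hxK := KER4.mem_closure (r := r) hp hpI f₂ a₂ σ₂ hprod hσ₂
  rw [← hx] at hxK
  rw [hgx]
  apply Subgroup.mul_mem
  · apply Subgroup.subset_closure
    exact ⟨hguA, hguN, R0 r O, R0LE.le_SQ Q' O, inf_le_left.trans (R0CENT.centralizer_le hr O), hguG⟩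
  · apply Subgroup.subset_closure
    exact ⟨hxA, hxN, Bsub p _ r, LIBB.Bsub_le_SQ _, inf_le_left.trans (BASECENT.centralizer_le hr), hxK⟩

end mainB

section mainB2

variable {p : ℕ} [Fact p.Prime] {I : Type} [Fintype I] [DecidableEq I] {r : ℕ}

/-- (b), `p = 2` -/
theorem MAINB.two (hp : p = 2) (hI : 3 ≤ Fintype.card I) (hr : r ≤ 1) (Q : Sylow p (Perm I))
    (g : Perm (X p I r)) (hgA : g ∈ alternatingGroup (X p I r))
    (hgN : g ∈ Subgroup.normalizer
      ((SQ r (Q : Subgroup (Perm I)) ⊓ alternatingGroup (X p I r) :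
        Subgroup (Perm (X p I r))) : Set (Perm (X p I r)))) :
    g ∈ Subgroup.closure {x : Perm (X p I r) | x ∈ alternatingGroup (X p I r) ∧
      x ∈ Subgroup.normalizer
        ((SQ r (Q : Subgroup (Perm I)) ⊓ alternatingGroup (X p I r) :
          Subgroup (Perm (X p I r))) : Set (Perm (X p I r))) ∧
      ∃ R : Subgroup (Perm (X p I r)),
        R ≤ SQ r (Q : Subgroup (Perm I)) ⊓ alternatingGroup (X p I r) ∧
        Subgroup.centralizer (R : Set (Perm (X p I r))) ⊓ alternatingGroup (X p I r) ≤ R ∧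
        x ∈ Subgroup.closure {h : Perm (X p I r) | h ∈ alternatingGroup (X p I r) ∧
          h ∈ Subgroup.normalizer (R : Set (Perm (X p I r))) ∧ IsPElt p h}} := by
  have hQ : Subgroup.normalizer (((Q : Subgroup (Perm I))) : Set (Perm I)) ≤ (Q : Subgroup (Perm I)) := by
    subst hp
    exact SELFNORM2.normalizer_le I Q
  have hN := NORM2.normalizer_le (r := r) hp hI hr (Q : Subgroup (Perm I)) hQ
  apply Subgroup.subset_closure
  refine ⟨hgA, hgN, _, le_rfl, ?_, ?_⟩
  · intro c hc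
    exact ⟨hN (Subgroup.centralizer_le_normalizer _ hc.1), hc.2⟩
  · apply Subgroup.subset_closure
    exact ⟨hgA, hgN, isPElt_of_mem_SQ _ Q.isPGroup' (hN hgN)⟩

end mainB2

section final

variable {p : ℕ} [Fact p.Prime] {I' : Type} [Fintype I'] [DecidableEq I'] {r' r : ℕ}

/-- the model Sylow subgroup has a simple fusion system -/
theorem FINAL.exists_model (hr : r ≤ 1) (hr' : r' < p) (hpI : p ≤ Fintype.card (X p I' r'))
    (hI : 3 ≤ Fintype.card (X p I' r')) [Nonempty I'] :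
    ∃ P : Sylow p (alternatingGroup (X p (X p I' r') r)),
      (Cfsg.groupFusionSystem
        (P : Subgroup (alternatingGroup (X p (X p I' r') r)))).IsSimple p := by
  have hp2 : 2 ≤ p := (Fact.out : p.Prime).two_le
  have hr1 : r < p := by omega
  obtain ⟨Q'⟩ := (inferInstance : Nonempty (Sylow p (Perm I')))
  obtain ⟨Q, hQ⟩ := SYLOWSQ.exists_sylow (r := r') Q' hr'
  obtain ⟨P, hP⟩ := SYLOWPLUS.exists_sylow (r := r) Q hr1
  refine ⟨P, ?_⟩
  apply INTERFACE.isSimple _ p P _ hP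
  · intro hbot
    apply NONTRIV.ne_bot (p := p) (I := X p I' r') (r := r) (by omega)
    rw [eq_bot_iff, ← hbot]
    exact inf_le_inf_right _ (LIBB.Bsub_le_SQ _)
  · intro T hT
    exact MAINA.eq_bot_or hpI hI hr1 Q T hT
  · intro g hgA hgN
    by_cases hp : p = 2
    · exact MAINB.two hp hI hr Q g hgA hgN
    · rw [hQ] at hgN ⊢
      exact MAINB.odd hp hpI hr (Q' : Subgroup (Perm I')) Q'.isPGroup' g hgA hgN

end final

/-- **S5165**: the `p`-fusion system of `A_n` is simple (`n ≥ 6`, `p² ≤ n`, `n % p ≤ 1`). -/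
theorem FINAL.isSimple (n p : ℕ) (hn : 6 ≤ n) [Fact p.Prime] (hnp : p ^ 2 ≤ n) (hb : n % p ≤ 1)
    (S : Sylow p (alternatingGroup (Fin n))) :
    (Cfsg.groupFusionSystem (S : Subgroup (alternatingGroup (Fin n)))).IsSimple p := by
  have hp2 : 2 ≤ p := (Fact.out : p.Prime).two_le
  have hp0 : 0 < p := by omega
  -- the parameters
  obtain ⟨m, hm⟩ : ∃ m, m = n / p := ⟨_, rfl⟩
  obtain ⟨r, hr⟩ : ∃ r, r = n % p := ⟨_, rfl⟩
  obtain ⟨m', hm'⟩ : ∃ m', m' = m / p := ⟨_, rfl⟩
  obtain ⟨r', hr'⟩ : ∃ r', r' = m % p := ⟨_, rfl⟩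
  have hn1 : p * m + r = n := by rw [hm, hr]; exact Nat.div_add_mod n p
  have hm1 : p * m' + r' = m := by rw [hm', hr']; exact Nat.div_add_mod m p
  have hpm : p ≤ m := by
    rw [hm, Nat.le_div_iff_mul_le hp0, ← pow_two]
    exact hnp
  have hm3 : 3 ≤ m := by
    by_cases h2 : p = 2
    · rw [hm, Nat.le_div_iff_mul_le hp0, h2]
      omega
    · omega
  have hm'1 : 1 ≤ m' := by
    rw [hm', Nat.le_div_iff_mul_le hp0]
    omega
  have hr'p : r' < p := by rw [hr']; exact Nat.mod_lt _ hp0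
  have hr1 : r ≤ 1 := by rw [hr]; exact hb
  have : Nonempty (Fin m') := ⟨⟨0, hm'1⟩⟩
  have hcI : Fintype.card (X p (Fin m') r') = m := by
    rw [Fintype.card_sum, Fintype.card_prod, ZMod.card, Fintype.card_fin, Fintype.card_fin,
      mul_comm]
    exact hm1
  have hcX : Fintype.card (X p (X p (Fin m') r') r) = n := by
    rw [Fintype.card_sum, Fintype.card_prod, ZMod.card, Fintype.card_fin, hcI, mul_comm]
    exact hn1
  obtain ⟨P, hP⟩ := FINAL.exists_model (p := p) (I' := Fin m') (r' := r') (r := r) hr1 hr'p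
    (by rw [hcI]; exact hpm) (by rw [hcI]; exact hm3)
  -- transport
  have e : X p (X p (Fin m') r') r ≃ Fin n := Fintype.equivFinOfCardEq hcX
  let φ : alternatingGroup (X p (X p (Fin m') r') r) ≃* alternatingGroup (Fin n) :=
    Equiv.altCongrHom e
  let S' : Sylow p (alternatingGroup (X p (X p (Fin m') r') r)) :=
    S.comapOfInjective φ.toMonoidHom φ.injective (by
      rw [MonoidHom.range_eq_top.mpr φ.surjective]
      exact le_top)
  obtain ⟨g, hg⟩ := MulAction.exists_smul_eq (alternatingGroup (X p (X p (Fin m') r') r)) P S'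
  have hS' : (S' : Subgroup (alternatingGroup (X p (X p (Fin m') r') r))) =
      Cfsg.Agent.Helper25.cj (P : Subgroup _) g := by
    rw [← hg]
    rfl
  have h1 : (Cfsg.groupFusionSystem
      (S' : Subgroup (alternatingGroup (X p (X p (Fin m') r') r)))).IsSimple p := by
    rw [hS']
    exact Cfsg.Agent.Helper25.iso_isSimple p P.isPGroup'
      (Cfsg.Agent.Helper25.groupFusion_conj_isFactorSystem (P : Subgroup _) g) hP
  have h2 := Cfsg.Agent.Helper25.iso_isSimple p S'.isPGroup'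
    (Cfsg.Agent.Helper25.groupFusion_equiv_isFactorSystem φ (S' : Subgroup _)) h1
  have h3 : (S' : Subgroup (alternatingGroup (X p (X p (Fin m') r') r))).map φ.toMonoidHom =
      (S : Subgroup (alternatingGroup (Fin n))) := by
    show ((S : Subgroup (alternatingGroup (Fin n))).comap φ.toMonoidHom).map φ.toMonoidHom = _
    exact Subgroup.map_comap_eq_self_of_surjective φ.surjective _
  rw [h3] at h2
  exact h2

end Cfsg.Agent.S5165P
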